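import Groth.Prelude.Def_W4swconnpcurvhiggsLogLam
import Groth.Prelude.Def_LogDiff

/-!
# Components of a logarithmic λ-connection and the pieces `E_I`
-/

set_option linter.unusedSectionVars false

universe v u

open TensorProduct

namespace Groth.Agent.LogConn95

variable {A : Type v} {B L E : Type u} [CommRing A] [CommRing B]
  [Algebra A B] [AddCommGroup L] [Module B L] [Module A L] [IsScalarTower A B L]
  [AddCommGroup E] [Module B E] [Module A E] [IsScalarTower A B E]
  {n : ℕ}

/-- The derivative `θ_i b = ω_i^*(ι db)`. -/
noncomputable def th (ω : Module.Basis (Fin n) B L) (ι : KaehlerDifferential A B →ₗ[B] L)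
    (i : Fin n) (b : B) : B :=
  ω.repr (ι (KaehlerDifferential.D A B b)) i

/-- Logarithmic coordinates. -/
structure Coords (t : Fin n → B) (ω : Module.Basis (Fin n) B L)
    (ι : KaehlerDifferential A B →ₗ[B] L) : Prop where
  dvd : ∀ η i, t i ∣ ω.repr (ι η) i
  th_t : ∀ i j, th ω ι i (t j) = if i = j then t i else 0

theorem coords_of_basis {t : Fin n → B} {ω : Module.Basis (Fin n) B L}
    {ι : KaehlerDifferential A B →ₗ[B] L} (bΩ : Module.Basis (Fin n) B (KaehlerDifferential A B))
    (hbΩ : ∀ i, bΩ i = KaehlerDifferential.D A B (t i))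
    (hι : ∀ i, ι (KaehlerDifferential.D A B (t i)) = t i • ω i) : Coords t ω ι where
  dvd η i := by
    classical
    rw [← bΩ.sum_repr η, map_sum, map_sum, Finsupp.finsetSum_apply]
    refine Finset.dvd_sum fun j _ => ?_
    rw [map_smul, hbΩ, hι, map_smul, map_smul, ω.repr_self]
    by_cases h : i = j
    · subst h; simp
    · simp [Ne.symm h]
  th_t i j := by
    classical
    rw [th, hι, map_smul, ω.repr_self]
    by_cases h : i = j
    · subst h; simp
    · simp [h]

section

variable {t : Fin n → B} {ω : Module.Basis (Fin n) B L} {ι : KaehlerDifferential A B →ₗ[B] L}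

theorem th_one (i : Fin n) : th ω ι i (1 : B) = 0 := by simp [th]

theorem th_mul (i : Fin n) (a b : B) : th ω ι i (a * b) = a * th ω ι i b + b * th ω ι i a := by
  simp [th, Derivation.leibniz]

theorem th_prod_exists (hco : Coords t ω ι) (i : Fin n) (S : Finset (Fin n)) :
    ∃ c, th ω ι i (∏ j ∈ S, t j) = c * ∏ j ∈ S, t j := by
  classical
  induction S using Finset.induction_on with
  | empty => exact ⟨0, by simp [th_one]⟩
  | insert a S ha ih =>
    obtain ⟨c, hc⟩ := ih
    rw [Finset.prod_insert ha, th_mul, hc, hco.th_t]
    split_ifs with h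
    · exact ⟨c + 1, by subst h; ring⟩
    · exact ⟨c, by ring⟩

theorem th_prod_zero (hco : Coords t ω ι) (i : Fin n) (S : Finset (Fin n)) (hi : i ∉ S) :
    th ω ι i (∏ j ∈ S, t j) = 0 := by
  classical
  induction S using Finset.induction_on with
  | empty => simp [th_one]
  | insert a S ha ih =>
    simp only [Finset.mem_insert, not_or] at hi
    rw [Finset.prod_insert ha, th_mul, ih hi.2, hco.th_t, if_neg hi.1]
    ring

theorem prod_sdiff_mul {I J K : Finset (Fin n)} (hK : K ⊆ J) (hJ : J ⊆ I) :
    (∏ i ∈ I \ J, t i) * ∏ i ∈ J \ K, t i = ∏ i ∈ I \ K, t i := by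
  classical
  rw [← Finset.prod_sdiff (s₁ := J \ K) (s₂ := I \ K) (Finset.sdiff_subset_sdiff hJ le_rfl)]
  congr 1
  refine Finset.prod_congr ?_ fun _ _ => rfl
  ext x
  simp only [Finset.mem_sdiff]
  grind

theorem prod_sdiff_insert {I J : Finset (Fin n)} {j : Fin n} (hj : j ∉ J) (hI : j ∈ I) :
    (∏ i ∈ I \ insert j J, t i) * t j = ∏ i ∈ I \ J, t i := by
  classical
  rw [mul_comm, ← Finset.prod_insert (f := t) (by simp)]
  refine Finset.prod_congr ?_ fun _ _ => rfl
  ext x
  simp only [Finset.mem_sdiff, Finset.mem_insert]
  grind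

end

variable (nabla : E →ₗ[A] E ⊗[B] L) (ω : Module.Basis (Fin n) B L)

theorem comp_apply (i : Fin n) (e : E) :
    LogConn.comp nabla ω i e =
      TensorProduct.rid B E (TensorProduct.map LinearMap.id (ω.coord i) (nabla e)) := rfl

theorem sum_comp_tmul (e : E) : ∑ i, LogConn.comp nabla ω i e ⊗ₜ[B] ω i = nabla e := by
  simp only [comp_apply]
  generalize nabla e = z
  induction z using TensorProduct.induction_on with
  | zero => simp
  | tmul x w =>
    simp only [TensorProduct.map_tmul, LinearMap.id_coe, id_eq, TensorProduct.rid_tmul,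
      Module.Basis.coord_apply, TensorProduct.smul_tmul, ← TensorProduct.tmul_sum, ω.sum_repr]
  | add a b ha hb => simp only [map_add, TensorProduct.add_tmul, Finset.sum_add_distrib, ha, hb]

theorem comp_smul {ι : KaehlerDifferential A B →ₗ[B] L} {lam : B}
    (hc : Conn.IsLamConn (ι.compDer (KaehlerDifferential.D A B)) lam nabla)
    (i : Fin n) (b : B) (e : E) :
    LogConn.comp nabla ω i (b • e) =
      b • LogConn.comp nabla ω i e + (lam * th ω ι i b) • e := by
  rw [comp_apply, comp_apply, hc b e, map_add, map_add, map_smul, map_smul, map_smul, map_smul,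
    mul_smul]
  rfl

theorem compProd_empty (e : E) : LogConn.compProd nabla ω ∅ e = e := by
  simp [LogConn.compProd]

theorem compProd_insert_min {j : Fin n} {J : Finset (Fin n)} (h : ∀ x ∈ J, j < x) (e : E) :
    LogConn.compProd nabla ω (insert j J) e =
      LogConn.comp nabla ω j (LogConn.compProd nabla ω J e) := by
  classical
  rw [LogConn.compProd, Finset.sort_insert _ (fun b hb => (h b hb).le) (fun hj => lt_irrefl j (h j hj))]
  rfl

variable (t : Fin n → B)

theorem mem_piece_gen {I J : Finset (Fin n)} (hJ : J ⊆ I) (e : E) :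
    (∏ i ∈ I \ J, t i) • LogConn.compProd nabla ω J e ∈ LogConn.piece nabla ω t I :=
  Submodule.mem_iSup_of_mem J (Submodule.mem_iSup_of_mem (Finset.mem_powerset.2 hJ) ⟨e, rfl⟩)

theorem piece_le {I : Finset (Fin n)} {S : Submodule A E}
    (h : ∀ J ⊆ I, ∀ e, (∏ i ∈ I \ J, t i) • LogConn.compProd nabla ω J e ∈ S) :
    LogConn.piece nabla ω t I ≤ S := by
  refine iSup₂_le fun J hJ => ?_
  rintro _ ⟨e, rfl⟩
  exact h J (Finset.mem_powerset.1 hJ) e

theorem compProd_mem_piece (I : Finset (Fin n)) (e : E) :
    LogConn.compProd nabla ω I e ∈ LogConn.piece nabla ω t I := by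
  simpa using mem_piece_gen nabla ω t (le_refl I) e

variable {nabla ω t} {ι : KaehlerDifferential A B →ₗ[B] L} {lam : B}
  (hco : Coords t ω ι)
  (hc : Conn.IsLamConn (ι.compDer (KaehlerDifferential.D A B)) lam nabla)

include hco hc

theorem smul_gen_mem (J : Finset (Fin n)) :
    ∀ (I : Finset (Fin n)), J ⊆ I → ∀ (b : B) (e : E),
      (∏ i ∈ I \ J, t i) • b • LogConn.compProd nabla ω J e ∈ LogConn.piece nabla ω t I := by
  classical
  induction J using Finset.induction_on_min with
  | empty =>
    intro I hI b e
    rw [compProd_empty]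
    simpa [compProd_empty] using mem_piece_gen nabla ω t hI (b • e)
  | insert j J hj ih =>
    intro I hI b e
    have hjJ : j ∉ J := fun h => lt_irrefl j (hj j h)
    have hjI : j ∈ I := hI (Finset.mem_insert_self _ _)
    have hJI : J ⊆ I := fun x hx => hI (Finset.mem_insert_of_mem hx)
    rw [compProd_insert_min nabla ω hj, show b • LogConn.comp nabla ω j (LogConn.compProd nabla ω J e) =
      LogConn.comp nabla ω j (b • LogConn.compProd nabla ω J e) -
        (lam * th ω ι j b) • LogConn.compProd nabla ω J e from
      eq_sub_of_add_eq (comp_smul nabla ω hc j b _).symm, smul_sub]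
    refine Submodule.sub_mem _ ?_ ?_
    · have hmem : b • LogConn.compProd nabla ω J e ∈ LogConn.piece nabla ω t J := by
        simpa using ih J le_rfl b e
      refine piece_le nabla ω t (S := (LogConn.piece nabla ω t I).comap
        (((LinearMap.lsmul B E (∏ i ∈ I \ insert j J, t i)).restrictScalars A) ∘ₗ
          LogConn.comp nabla ω j)) ?_ hmem
      intro K hK e'
      simp only [Submodule.mem_comap, LinearMap.comp_apply, LinearMap.restrictScalars_apply,
        LinearMap.lsmul_apply]
      rw [comp_smul nabla ω hc, th_prod_zero hco j _ (fun h => hjJ (Finset.mem_sdiff.1 h).1),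
        mul_zero, zero_smul, add_zero, smul_smul,
        ← compProd_insert_min nabla ω (fun x hx => hj x (hK hx))]
      have heq : J \ K = insert j J \ insert j K := by
        ext x
        simp only [Finset.mem_sdiff, Finset.mem_insert]
        grind
      rw [heq, prod_sdiff_mul (Finset.insert_subset_insert j hK) hI]
      exact mem_piece_gen nabla ω t ((Finset.insert_subset_insert j hK).trans hI) e'
    · obtain ⟨c, hcj⟩ := hco.dvd (KaehlerDifferential.D A B b) j
      have h := ih I hJI (lam * c) e
      rw [← prod_sdiff_insert hjJ hjI, smul_smul] at h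
      rw [smul_smul]
      convert h using 2
      rw [show th ω ι j b = t j * c from hcj]
      ring

theorem piece_smul_mem {I : Finset (Fin n)} (b : B) {x : E}
    (hx : x ∈ LogConn.piece nabla ω t I) : b • x ∈ LogConn.piece nabla ω t I := by
  refine piece_le nabla ω t (S := (LogConn.piece nabla ω t I).comap
    ((LinearMap.lsmul B E b).restrictScalars A)) (fun J hJ e => ?_) hx
  simp only [Submodule.mem_comap, LinearMap.restrictScalars_apply, LinearMap.lsmul_apply]
  rw [smul_comm]
  exact smul_gen_mem hco hc J I hJ b e

theorem gen_mem_span {m : ℕ} (e : Fin m → E) (he : Submodule.span B (Set.range e) = ⊤)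
    (J : Finset (Fin n)) :
    ∀ (I : Finset (Fin n)), J ⊆ I → ∀ x : E,
      (∏ i ∈ I \ J, t i) • LogConn.compProd nabla ω J x ∈
        Submodule.span B (⋃ J ∈ I.powerset, Set.range (fun k : Fin m =>
          (∏ i ∈ I \ J, t i) • LogConn.compProd nabla ω J (e k))) := by
  classical
  induction J using Finset.induction_on_min with
  | empty =>
    intro I hI x
    have hx : x ∈ Submodule.span B (Set.range e) := by rw [he]; trivial
    induction hx using Submodule.span_induction with
    | mem x hx =>
      obtain ⟨k, rfl⟩ := hx
      exact Submodule.subset_span (Set.mem_biUnion (Finset.mem_powerset.2 hI) ⟨k, rfl⟩)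
    | zero => simp
    | add a b _ _ ha hb => rw [map_add, smul_add]; exact add_mem ha hb
    | smul c a _ ha =>
      rw [compProd_empty, smul_comm]
      rw [compProd_empty] at ha
      exact Submodule.smul_mem _ c ha
  | insert j J hj ih =>
    intro I hI x
    have hjJ : j ∉ J := fun h => lt_irrefl j (hj j h)
    have hjI : j ∈ I := hI (Finset.mem_insert_self _ _)
    rw [compProd_insert_min nabla ω hj]
    have hx := ih J le_rfl x
    simp only [Finset.sdiff_self, Finset.prod_empty, one_smul] at hx
    generalize LogConn.compProd nabla ω J x = y at hx ⊢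
    suffices H : ∀ c : B, (∏ i ∈ I \ insert j J, t i) • LogConn.comp nabla ω j (c • y) ∈
        Submodule.span B (⋃ J ∈ I.powerset, Set.range (fun k : Fin m =>
          (∏ i ∈ I \ J, t i) • LogConn.compProd nabla ω J (e k))) by
      simpa using H 1
    induction hx using Submodule.span_induction with
    | mem y hy =>
      intro c
      simp only [Set.mem_iUnion, Set.mem_range] at hy
      obtain ⟨K, hK, k, rfl⟩ := hy
      rw [Finset.mem_powerset] at hK
      obtain ⟨d, hd⟩ := hco.dvd (KaehlerDifferential.D A B c) j
      have hK' : insert j K ⊆ I := (Finset.insert_subset_insert j hK).trans hI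
      have heq : J \ K = insert j J \ insert j K := by
        ext x
        simp only [Finset.mem_sdiff, Finset.mem_insert]
        grind
      have h1 : (∏ i ∈ I \ insert j J, t i) * (c * ∏ i ∈ J \ K, t i) =
          c * ∏ i ∈ I \ insert j K, t i := by
        rw [mul_left_comm, heq, prod_sdiff_mul (Finset.insert_subset_insert j hK) hI]
      have h2 : (∏ i ∈ I \ insert j J, t i) * (lam * (t j * d) * ∏ i ∈ J \ K, t i) =
          lam * d * ∏ i ∈ I \ K, t i := by
        rw [← prod_sdiff_mul (I := I) hK (fun x hx => hI (Finset.mem_insert_of_mem hx)),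
          ← prod_sdiff_insert hjJ hjI]
        ring
      rw [comp_smul nabla ω hc, comp_smul nabla ω hc,
        th_prod_zero hco j _ (fun h => hjJ (Finset.mem_sdiff.1 h).1), mul_zero, zero_smul, add_zero,
        smul_add, show th ω ι j c = t j * d from hd,
        ← compProd_insert_min nabla ω (fun x hx => hj x (hK hx))]
      simp only [smul_smul]
      rw [h1, h2, mul_smul, mul_smul (lam * d)]
      exact add_mem
        (Submodule.smul_mem _ _ (Submodule.subset_span
          (Set.mem_biUnion (Finset.mem_powerset.2 hK') ⟨k, rfl⟩)))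
        (Submodule.smul_mem _ _ (Submodule.subset_span
          (Set.mem_biUnion (Finset.mem_powerset.2 (hK.trans fun x hx => hI (Finset.mem_insert_of_mem hx)))
            ⟨k, rfl⟩)))
    | zero => intro c; simp
    | add a b _ _ ha hb =>
      intro c; rw [smul_add, map_add, smul_add]; exact add_mem (ha c) (hb c)
    | smul d a _ ha => intro c; rw [smul_smul]; exact ha _

section Comm

variable (hcomm : ∀ i j e, LogConn.comp nabla ω i (LogConn.comp nabla ω j e) =
  LogConn.comp nabla ω j (LogConn.comp nabla ω i e))

include hcomm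

omit hco hc in
theorem comp_compProd (i : Fin n) (J : Finset (Fin n)) (e : E) :
    LogConn.comp nabla ω i (LogConn.compProd nabla ω J e) =
      LogConn.compProd nabla ω J (LogConn.comp nabla ω i e) := by
  classical
  induction J using Finset.induction_on_min with
  | empty => simp [compProd_empty]
  | insert j J hj ih => rw [compProd_insert_min nabla ω hj, compProd_insert_min nabla ω hj, hcomm, ih]

omit hco hc in
theorem compProd_insert {i : Fin n} (J : Finset (Fin n)) (hi : i ∉ J) (e : E) :
    LogConn.compProd nabla ω (insert i J) e =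
      LogConn.comp nabla ω i (LogConn.compProd nabla ω J e) := by
  classical
  induction J using Finset.induction_on_min with
  | empty =>
    rw [compProd_insert_min nabla ω (j := i) (J := ∅) (by simp)]
  | insert j J hj ih =>
    simp only [Finset.mem_insert, not_or] at hi
    rcases lt_or_gt_of_ne hi.1 with h | h
    · exact compProd_insert_min nabla ω (fun x hx => by
        rcases Finset.mem_insert.1 hx with rfl | hx
        · exact h
        · exact h.trans (hj x hx)) e
    · rw [Finset.insert_comm, compProd_insert_min nabla ω (fun x hx => by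
        rcases Finset.mem_insert.1 hx with rfl | hx
        · exact h
        · exact hj x hx), ih hi.2, compProd_insert_min nabla ω hj, hcomm]

omit hco hc in
theorem compProd_union (S J : Finset (Fin n)) (h : Disjoint S J) (e : E) :
    LogConn.compProd nabla ω (S ∪ J) e =
      LogConn.compProd nabla ω S (LogConn.compProd nabla ω J e) := by
  classical
  induction S using Finset.induction_on with
  | empty => simp [compProd_empty]
  | insert a S ha ih =>
    rw [Finset.disjoint_insert_left] at h
    rw [Finset.insert_union, compProd_insert hcomm _ (by simp [ha, h.1]), ih h.2,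
      compProd_insert hcomm _ ha]

theorem piece_antitone {K' K : Finset (Fin n)} (h : K' ⊆ K) :
    LogConn.piece nabla ω t K ≤ LogConn.piece nabla ω t K' := by
  classical
  refine piece_le nabla ω t fun J hJ e => ?_
  rw [show J = (J ∩ K') ∪ (J \ K') by ext x; simp only [Finset.mem_union, Finset.mem_inter, Finset.mem_sdiff]; grind,
    compProd_union hcomm _ _ (Finset.disjoint_left.2 fun x hx hx' => by
      simp only [Finset.mem_inter, Finset.mem_sdiff] at hx hx'; exact hx'.2 hx.2)]
  rw [show ((J ∩ K') ∪ (J \ K')) = J by ext x; simp only [Finset.mem_union, Finset.mem_inter, Finset.mem_sdiff]; grind]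
  have hsub : K' \ (J ∩ K') ⊆ K \ J := by
    intro x
    simp only [Finset.mem_inter, Finset.mem_sdiff]
    grind
  rw [← Finset.prod_sdiff hsub, mul_smul]
  exact piece_smul_mem hco hc _ (mem_piece_gen nabla ω t Finset.inter_subset_right _)

theorem comp_piece (i : Fin n) {K : Finset (Fin n)} {x : E}
    (hx : x ∈ LogConn.piece nabla ω t K) :
    LogConn.comp nabla ω i x ∈ LogConn.piece nabla ω t K := by
  refine piece_le nabla ω t (S := (LogConn.piece nabla ω t K).comap (LogConn.comp nabla ω i))
    (fun J hJ e => ?_) hx
  obtain ⟨c, hcT⟩ := th_prod_exists hco i (K \ J)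
  rw [Submodule.mem_comap, comp_smul nabla ω hc, comp_compProd hcomm, hcT, ← mul_assoc, mul_smul]
  exact add_mem (mem_piece_gen nabla ω t hJ _)
    (piece_smul_mem hco hc _ (mem_piece_gen nabla ω t hJ e))

theorem comp_piece_insert {i : Fin n} {K : Finset (Fin n)} (hi : i ∉ K) {x : E}
    (hx : x ∈ LogConn.piece nabla ω t K) :
    LogConn.comp nabla ω i x ∈ LogConn.piece nabla ω t (insert i K) := by
  classical
  refine piece_le nabla ω t (S := (LogConn.piece nabla ω t (insert i K)).comap (LogConn.comp nabla ω i))
    (fun J hJ e => ?_) hx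
  rw [Submodule.mem_comap, comp_smul nabla ω hc, th_prod_zero hco i _ (fun h => hi (Finset.mem_sdiff.1 h).1),
    mul_zero, zero_smul, add_zero, ← compProd_insert hcomm _ (fun h => hi (hJ h))]
  rw [show K \ J = insert i K \ insert i J by
    ext y; simp only [Finset.mem_sdiff, Finset.mem_insert]; grind]
  exact mem_piece_gen nabla ω t (Finset.insert_subset_insert i hJ) e

end Comm

omit hc hco in
theorem prod_smul_piece {I K : Finset (Fin n)} (hK : K ⊆ I) {x : E}
    (hx : x ∈ LogConn.piece nabla ω t K) :
    (∏ i ∈ I \ K, t i) • x ∈ LogConn.piece nabla ω t I := by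
  refine piece_le nabla ω t (S := (LogConn.piece nabla ω t I).comap
    ((LinearMap.lsmul B E (∏ i ∈ I \ K, t i)).restrictScalars A)) (fun J hJ e => ?_) hx
  simp only [Submodule.mem_comap, LinearMap.restrictScalars_apply, LinearMap.lsmul_apply, smul_smul,
    prod_sdiff_mul hJ hK]
  exact mem_piece_gen nabla ω t (hJ.trans hK) e

end Groth.Agent.LogConn95
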