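import Groth.Agent.LogConn95.Basic

/-!
# Coordinates of `E ⊗ ⋀^p L` and the layers
-/

set_option linter.unusedSectionVars false

universe v u

open TensorProduct

namespace Groth.Agent.LogConn95

variable {A : Type v} {B L E : Type u} [CommRing A] [CommRing B]
  [Algebra A B] [AddCommGroup L] [Module B L] [Module A L] [IsScalarTower A B L]
  [AddCommGroup E] [Module B E] [Module A E] [IsScalarTower A B E]
  {n : ℕ}

/-- The increasing enumeration of a set of `p` indices. -/
noncomputable def enum {p : ℕ} (K : Set.powersetCard (Fin n) p) : Fin p ↪o Fin n :=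
  Set.powersetCard.ofFinEmbEquiv.symm K

theorem enum_mem {p : ℕ} (K : Set.powersetCard (Fin n) p) (k : Fin p) :
    enum K k ∈ (K : Finset (Fin n)) := by
  rw [enum, Set.powersetCard.ofFinEmbEquiv_symm_apply]
  exact Finset.orderEmbOfFin_mem _ _ _

theorem exists_enum_eq {p : ℕ} (K : Set.powersetCard (Fin n) p) {a : Fin n}
    (ha : a ∈ (K : Finset (Fin n))) : ∃ k, enum K k = a := by
  have h := Finset.range_orderEmbOfFin (K : Finset (Fin n)) K.2
  have : a ∈ Set.range ((K : Finset (Fin n)).orderEmbOfFin K.2) := by rw [h]; exact ha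
  obtain ⟨k, hk⟩ := this
  exact ⟨k, by rw [enum, Set.powersetCard.ofFinEmbEquiv_symm_apply]; exact hk⟩

theorem prod_enum {p : ℕ} (K : Set.powersetCard (Fin n) p) (f : Fin n → B) :
    ∏ k, f (enum K k) = ∏ a ∈ (K : Finset (Fin n)), f a := by
  refine Finset.prod_bij (fun k _ => enum K k) (fun k _ => enum_mem K k)
    (fun a _ b _ h => (enum K).injective h) (fun a ha => ?_) (fun _ _ => rfl)
  obtain ⟨k, hk⟩ := exists_enum_eq K ha
  exact ⟨k, Finset.mem_univ _, hk⟩

variable (ω : Module.Basis (Fin n) B L)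

theorem coordE_tmul {p : ℕ} (K : Set.powersetCard (Fin n) p) (x : E) (η : ↥(⋀[B]^p L)) :
    LogConn.coordE ω p K (x ⊗ₜ[B] η) = (ω.exteriorPower p).coord K η • x := by
  simp [LogConn.coordE]

theorem coord_ιMulti {p : ℕ} (K : Set.powersetCard (Fin n) p) (v : Fin p → L) :
    (ω.exteriorPower p).coord K (exteriorPower.ιMulti B p v) =
      (Matrix.of fun i j => ω.repr (v i) (enum K j)).det := by
  rw [exteriorPower.basis_coord, exteriorPower.ιMultiDual_apply_ιMulti]
  rfl

theorem basis_eq {p : ℕ} (K : Set.powersetCard (Fin n) p) :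
    ω.exteriorPower p K = exteriorPower.ιMulti B p (fun k => ω (enum K k)) :=
  exteriorPower.basis_apply B p ω K

theorem coord_eq_zero_of_notMem {p : ℕ} (K : Set.powersetCard (Fin n) p) (v : Fin p → L)
    (i : Fin p) (a : Fin n) (hv : v i = ω a) (ha : a ∉ (K : Finset (Fin n))) :
    (ω.exteriorPower p).coord K (exteriorPower.ιMulti B p v) = 0 := by
  rw [coord_ιMulti]
  refine Matrix.det_eq_zero_of_row_eq_zero i fun j => ?_
  rw [Matrix.of_apply, hv, ω.repr_self, Finsupp.single_eq_of_ne]
  exact fun h => ha (h ▸ enum_mem K j)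

theorem dvd_coord {p : ℕ} (t : Fin n → B) (K : Set.powersetCard (Fin n) p) (v : Fin p → L)
    (S : Finset (Fin n)) (h : ∀ i, ∀ a ∉ S, t a ∣ ω.repr (v i) a) :
    (∏ a ∈ (K : Finset (Fin n)) \ S, t a) ∣
      (ω.exteriorPower p).coord K (exteriorPower.ιMulti B p v) := by
  classical
  have hM : ∀ i j, ∃ c, ω.repr (v i) (enum K j) = (if enum K j ∈ S then 1 else t (enum K j)) * c := by
    intro i j
    split_ifs with hs
    · exact ⟨_, (one_mul _).symm⟩
    · obtain ⟨c, hc⟩ := h i _ hs
      exact ⟨c, hc⟩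
  choose M hM using hM
  refine ⟨(Matrix.of fun i j => M i j).det, ?_⟩
  rw [coord_ιMulti, show (Matrix.of fun i j => ω.repr (v i) (enum K j)) =
      Matrix.of fun i j => (if enum K j ∈ S then (1 : B) else t (enum K j)) *
        (Matrix.of fun i j => M i j) i j from by ext i j; exact hM i j,
    Matrix.det_mul_row, prod_enum K (fun a => if a ∈ S then (1 : B) else t a)]
  congr 1
  rw [Finset.prod_ite, Finset.prod_const_one, one_mul, Finset.sdiff_eq_filter]

theorem sum_coordE (p : ℕ) (x : E ⊗[B] ↥(⋀[B]^p L)) :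
    ∑ K : Set.powersetCard (Fin n) p, LogConn.coordE ω p K x ⊗ₜ[B] ω.exteriorPower p K = x := by
  induction x using TensorProduct.induction_on with
  | zero => simp
  | tmul e η =>
    simp only [coordE_tmul, TensorProduct.smul_tmul, ← TensorProduct.tmul_sum, Module.Basis.coord_apply,
      (ω.exteriorPower p).sum_repr]
  | add a b ha hb => simp only [map_add, TensorProduct.add_tmul, Finset.sum_add_distrib, ha, hb]

theorem mem_layer_iff {nabla : E →ₗ[A] E ⊗[B] L} {t : Fin n → B} {p : ℕ}
    {x : E ⊗[B] ↥(⋀[B]^p L)} :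
    x ∈ LogConn.layer nabla ω t p ↔ ∀ K : Set.powersetCard (Fin n) p,
      LogConn.coordE ω p K x ∈ LogConn.piece nabla ω t (K : Finset (Fin n)) := by
  simp [LogConn.layer, Submodule.mem_iInf]

variable {ω}

theorem wedge_one_ιMulti {p : ℕ} (w : L) (v : Fin p → L) :
    Conn.wedge p ((exteriorPower.oneEquiv B L).symm w) (exteriorPower.ιMulti B p v) =
      exteriorPower.ιMulti B (p + 1) (Fin.cons w v) := by
  have h1 : (exteriorPower.oneEquiv B L).symm w = exteriorPower.ιMulti B 1 (fun _ => w) := by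
    rw [LinearEquiv.symm_apply_eq, exteriorPower.oneEquiv_ιMulti]
  apply Subtype.ext
  rw [Conn.wedge_apply_coe, h1, exteriorPower.ιMulti_apply_coe, exteriorPower.ιMulti_apply_coe,
    exteriorPower.ιMulti_apply_coe, ExteriorAlgebra.ιMulti_succ_apply, ExteriorAlgebra.ιMulti_succ_apply,
    ExteriorAlgebra.ιMulti_zero_apply, mul_one, Fin.cons_zero]
  rfl

theorem twedge_nabla {p : ℕ} (nabla : E →ₗ[A] E ⊗[B] L) (ω : Module.Basis (Fin n) B L) (y : E)
    (v : Fin p → L) :
    Conn.twedge p (Conn.toOne (nabla y)) (exteriorPower.ιMulti B p v) =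
      ∑ i, LogConn.comp nabla ω i y ⊗ₜ[B] exteriorPower.ιMulti B (p + 1) (Fin.cons (ω i) v) := by
  conv_lhs => rw [← sum_comp_tmul nabla ω y]
  simp only [map_sum, LinearMap.coe_sum, Finset.sum_apply, Conn.toOne_tmul, Conn.twedge_tmul,
    wedge_one_ιMulti]

/-- Commutation of the components of an integrable connection in a basis of closed forms. -/
theorem comp_comm {nabla : E →ₗ[A] E ⊗[B] L} (ω : Module.Basis (Fin n) B L)
    (d : ∀ p : ℕ, ↥(⋀[B]^p L) →ₗ[A] ↥(⋀[B]^(p + 1) L))
    (nablas : ∀ p : ℕ, E ⊗[B] ↥(⋀[B]^p L) →ₗ[A] E ⊗[B] ↥(⋀[B]^(p + 1) L))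
    (hint : Conn.IsIntegrable nabla d nablas)
    (hd1 : ∀ i, d 1 (exteriorPower.ιMulti B 1 (fun _ => ω i)) = 0) (i j : Fin n) (e : E) :
    LogConn.comp nabla ω i (LogConn.comp nabla ω j e) =
      LogConn.comp nabla ω j (LogConn.comp nabla ω i e) := by
  classical
  have h := hint.2 e
  have h1 : ∀ l, (exteriorPower.oneEquiv B L).symm (ω l) = exteriorPower.ιMulti B 1 (fun _ => ω l) :=
    fun l => by rw [LinearEquiv.symm_apply_eq, exteriorPower.oneEquiv_ιMulti]
  rw [← sum_comp_tmul nabla ω e, map_sum, map_sum] at h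
  have hr : ∀ (q : ℕ) (m : E) (η : ↥(⋀[B]^q L)),
      nablas q (m ⊗ₜ[B] η) = Conn.twedge q (Conn.toOne (nabla m)) η + m ⊗ₜ[B] d q η := hint.1
  simp only [Conn.toOne_tmul, h1, hr, hd1, tmul_zero, add_zero, twedge_nabla nabla ω] at h
  suffices H : ∀ a b : Fin n, a < b → LogConn.comp nabla ω a (LogConn.comp nabla ω b e) =
      LogConn.comp nabla ω b (LogConn.comp nabla ω a e) by
    rcases lt_trichotomy i j with h | h | h
    · exact H i j h
    · rw [h]
    · exact (H j i h).symm
  intro a b hab
  let K : Set.powersetCard (Fin n) 2 := ⟨{a, b}, by simp [Set.powersetCard, hab.ne]⟩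
  obtain ⟨h0, h1'⟩ : enum K 0 = a ∧ enum K 1 = b := by
    have hlt : enum K 0 < enum K 1 := (enum K).strictMono (by decide)
    have m0 := enum_mem K 0
    have m1 := enum_mem K 1
    simp only [K, Finset.mem_insert, Finset.mem_singleton] at m0 m1
    rcases m0 with e0 | e0 <;> rcases m1 with e1 | e1
    · rw [e0, e1] at hlt; exact absurd hlt (lt_irrefl _)
    · exact ⟨e0, e1⟩
    · rw [e0, e1] at hlt; exact absurd hlt hab.asymm
    · rw [e0, e1] at hlt; exact absurd hlt (lt_irrefl _)
  have hk := congrArg (LogConn.coordE ω 2 K) h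
  rw [map_zero, map_sum] at hk
  simp only [map_sum, coordE_tmul, coord_ιMulti] at hk
  simp only [Matrix.det_fin_two, Matrix.of_apply, Fin.cons_zero, Fin.cons_one, h0, h1',
    ω.repr_self, Finsupp.single_apply, sub_smul, Finset.sum_sub_distrib, mul_ite, ite_mul,
    one_mul, zero_mul, mul_one, mul_zero, ite_smul, one_smul, zero_smul] at hk
  simp only [Finset.sum_ite_irrel, Finset.sum_const_zero, Finset.sum_ite_eq', Finset.mem_univ,
    if_true] at hk
  exact sub_eq_zero.1 hk

/-- The layer of a second coordinate system is contained in the layer of the first. -/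
theorem layer_le {nabla : E →ₗ[A] E ⊗[B] L} {t t' : Fin n → B} {ω ω' : Module.Basis (Fin n) B L}
    {ι : KaehlerDifferential A B →ₗ[B] L} {lam : B}
    (hco : Coords t ω ι)
    (hc : Conn.IsLamConn (ι.compDer (KaehlerDifferential.D A B)) lam nabla)
    (hcomm : ∀ i j e, LogConn.comp nabla ω i (LogConn.comp nabla ω j e) =
      LogConn.comp nabla ω j (LogConn.comp nabla ω i e))
    (ht : ∀ i, t i ∣ t' i)
    (hrow : ∀ i a, a ≠ i → t a ∣ ω.repr (ω' i) a)
    (hinv : ∀ i j, ∃ c, ω'.repr (ω j) i = (if i = j then 1 else 0) + t i * c) (p : ℕ) :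
    LogConn.layer nabla ω' t' p ≤ LogConn.layer nabla ω t p := by
  classical
  have hcomp : ∀ i, ∀ {J : Finset (Fin n)}, i ∉ J → ∀ {x : E}, x ∈ LogConn.piece nabla ω t J →
      LogConn.comp nabla ω' i x ∈ LogConn.piece nabla ω t (insert i J) := by
    intro i J hi x hx
    choose c hc' using hinv i
    have hexp : LogConn.comp nabla ω' i x =
        LogConn.comp nabla ω i x + ∑ j, c j • t i • LogConn.comp nabla ω j x := by
      rw [comp_apply nabla ω' i x, ← sum_comp_tmul nabla ω x]
      simp only [map_sum, TensorProduct.map_tmul, LinearMap.id_coe, id_eq, TensorProduct.rid_tmul,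
        Module.Basis.coord_apply, hc', add_smul, Finset.sum_add_distrib, ite_smul, one_smul, zero_smul,
        Finset.sum_ite_eq, Finset.mem_univ, if_true]
      congr 1
      exact Finset.sum_congr rfl fun j _ => by rw [smul_smul, mul_comm]
    rw [hexp]
    refine add_mem (comp_piece_insert hco hc hcomm hi hx) (sum_mem fun j _ => piece_smul_mem hco hc _ ?_)
    have h := prod_smul_piece (Finset.subset_insert i J) (comp_piece hco hc hcomm j hx)
    rwa [show insert i J \ J = {i} by
      ext y; simp only [Finset.mem_sdiff, Finset.mem_insert, Finset.mem_singleton]; grind,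
      Finset.prod_singleton] at h
  have hcp : ∀ (J : Finset (Fin n)) (e : E),
      LogConn.compProd nabla ω' J e ∈ LogConn.piece nabla ω t J := by
    intro J e
    induction J using Finset.induction_on_min with
    | empty =>
      simpa [compProd_empty] using compProd_mem_piece nabla ω t ∅ e
    | insert j J hj ih =>
      rw [compProd_insert_min nabla ω' hj]
      exact hcomp j (fun h => lt_irrefl j (hj j h)) ih
  have hpiece : ∀ I : Finset (Fin n), LogConn.piece nabla ω' t' I ≤ LogConn.piece nabla ω t I := by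
    intro I
    refine piece_le nabla ω' t' fun J hJ e => ?_
    choose u hu using ht
    rw [Finset.prod_congr rfl (fun a _ => hu a), Finset.prod_mul_distrib, mul_comm, mul_smul]
    exact piece_smul_mem hco hc _ (prod_smul_piece hJ (hcp J e))
  intro x hx
  rw [mem_layer_iff] at hx ⊢
  intro K'
  rw [← sum_coordE ω' p x, map_sum]
  refine sum_mem fun K _ => ?_
  rw [coordE_tmul, basis_eq]
  obtain ⟨c, hc'⟩ := dvd_coord ω t K' (fun k => ω' (enum K k)) ↑K
    (fun i a ha => hrow _ a fun h => ha (h ▸ enum_mem K i))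
  rw [hc', mul_comm, mul_smul]
  refine piece_smul_mem hco hc _ ?_
  rw [show (K' : Finset (Fin n)) \ ↑K = (K' : Finset (Fin n)) \ ((K : Finset (Fin n)) ∩ ↑K') by
    ext y; simp only [Finset.mem_sdiff, Finset.mem_inter]; grind]
  exact prod_smul_piece Finset.inter_subset_right
    (piece_antitone hco hc hcomm Finset.inter_subset_left (hpiece _ (hx K)))

end Groth.Agent.LogConn95
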